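import Mathlib

/-!
# Rational coactions of the additive and multiplicative group on a field

A field extension with a non trivial rational coaction `φ : F → F(t)` of the additive or multiplicative
group is purely transcendental of degree one over finitely generated invariants.
-/

set_option autoImplicit false
universe u

open Polynomial

noncomputable section

namespace Groth.Agent.ActRat

variable {K F : Type u} [Field K] [Field F] [Algebra K F]

/-- The rational function field as target of a coaction. -/
abbrev E (F : Type u) [Field F] : Type u := RatFunc F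

/-- The parameter. -/
abbrev par (F : Type u) [Field F] : E F := RatFunc.X

/-- The cocycle identity for a coaction with the substitution `w`. -/
def Cocycle (φ : F →+* E F) (w : (E F)[X]) : Prop :=
  ∀ f : F, ((φ f).num.map φ) * ((φ f).denom.map (RatFunc.C : F →+* E F)).comp w =
    (((φ f).num.map (RatFunc.C : F →+* E F)).comp w) * ((φ f).denom.map φ)

/-- The unit identity. -/
def UnitLaw (φ : F →+* E F) (c : F) : Prop :=
  ∀ f : F, (φ f).denom.eval c ≠ 0 ∧ (φ f).num.eval c = f * (φ f).denom.eval c

/-- A slice over finitely generated invariants. -/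
def HasSlice (K F : Type u) [Field K] [Field F] [Algebra K F] : Prop :=
  ∃ (S : Finset F) (s : F), IntermediateField.adjoin K ((↑S : Set F) ∪ {s}) = ⊤ ∧
    Transcendental (IntermediateField.adjoin K (↑S : Set F)) s

theorem natDegree_pos_of_monic {p : F[X]} (hp : p.Monic) (h : p ≠ 1) : 0 < p.natDegree :=
  Nat.pos_of_ne_zero fun h0 => h (hp.natDegree_eq_zero.1 h0)

theorem algebraMap_eq_sum (p : F[X]) :
    algebraMap F[X] (E F) p = ∑ i ∈ p.support, RatFunc.C (p.coeff i) * par F ^ i := by
  conv_lhs => rw [p.as_sum_support]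
  rw [map_sum]
  refine Finset.sum_congr rfl fun i _ => ?_
  rw [← C_mul_X_pow_eq_monomial, map_mul, map_pow, RatFunc.algebraMap_C, RatFunc.algebraMap_X]

/-- Reduction to generation over the invariants. -/
theorem hasSlice_of_generates (φ : F →+* E F) (hφK : ∀ a, φ (algebraMap K F a) = RatFunc.C (algebraMap K F a))
    (hfg : ∃ S0 : Finset F, IntermediateField.adjoin K (↑S0 : Set F) = ⊤) (s : F)
    (hs : Transcendental F (φ s))
    (hgen : ∀ f : F, f ∈ IntermediateField.adjoin K ({x | φ x = RatFunc.C x} ∪ {s})) :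
    HasSlice K F := by
  classical
  obtain ⟨S0, hS0⟩ := hfg
  have hL : ∀ f : F, ∃ T : Finset F, (↑T : Set F) ⊆ {x | φ x = RatFunc.C x} ∪ {s} ∧
      f ∈ IntermediateField.adjoin K (↑T : Set F) := fun f =>
    IntermediateField.exists_finset_of_mem_adjoin (hgen f)
  choose T hT hfT using hL
  let S : Finset F := (S0.biUnion T).filter fun x => φ x = RatFunc.C x
  refine ⟨S, s, ?_, ?_⟩
  · rw [eq_top_iff, ← hS0, IntermediateField.adjoin_le_iff]
    intro f hf
    refine IntermediateField.adjoin.mono K _ _ ?_ (hfT f)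
    intro x hx
    rcases hT f hx with h | h
    · exact Or.inl (Finset.mem_filter.2 ⟨Finset.mem_biUnion.2 ⟨f, hf, hx⟩, h⟩)
    · exact Or.inr h
  · let Linv : IntermediateField K F :=
      { carrier := {x | φ x = RatFunc.C x}
        mul_mem' := fun {a b} (ha : φ a = _) (hb : φ b = _) => by
          show φ (a * b) = _; rw [map_mul, map_mul, ha, hb]
        add_mem' := fun {a b} (ha : φ a = _) (hb : φ b = _) => by
          show φ (a + b) = _; rw [map_add, map_add, ha, hb]
        algebraMap_mem' := hφK
        inv_mem' := fun a (ha : φ a = _) => by show φ a⁻¹ = _; rw [map_inv₀, map_inv₀, ha] }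
    have hle : IntermediateField.adjoin K (↑S : Set F) ≤ Linv :=
      IntermediateField.adjoin_le_iff.2 fun x hx => (Finset.mem_filter.1 hx).2
    rw [transcendental_iff]
    intro p hp
    have h := congrArg φ hp
    rw [map_zero, aeval_def, hom_eval₂] at h
    have e : φ.comp (algebraMap (IntermediateField.adjoin K (↑S : Set F)) F) =
        (RatFunc.C : F →+* E F).comp (algebraMap (IntermediateField.adjoin K (↑S : Set F)) F) :=
      RingHom.ext fun x => hle x.2
    rw [e, ← eval₂_map] at h
    have h0 := (transcendental_iff.1 hs) (p.map (algebraMap _ F)) (by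
      rw [aeval_def, RatFunc.algebraMap_eq_C]; exact h)
    exact (Polynomial.map_eq_zero_iff
      (RingHom.injective (algebraMap (IntermediateField.adjoin K (↑S : Set F)) F))).1 h0

/-! ### The multiplicative group -/

/-- Weight vectors. -/
def Weight (φ : F →+* E F) (d : ℤ) (f : F) : Prop := φ f = RatFunc.C f * par F ^ d

theorem hasSlice_gm (φ : F →+* E F) (hφK : ∀ a, φ (algebraMap K F a) = RatFunc.C (algebraMap K F a))
    (hfg : ∃ S0 : Finset F, IntermediateField.adjoin K (↑S0 : Set F) = ⊤)
    (hu : UnitLaw φ 1) (hc : Cocycle φ (X * C (par F))) (hnt : φ ≠ RatFunc.C) : HasSlice K F := by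
  classical
  let L : Set F := {x | φ x = RatFunc.C x}
  have hX : (par F) ≠ 0 := RatFunc.X_ne_zero
  -- coefficients of numerator and denominator are weight vectors
  have hwt : ∀ (f : F) (i : ℕ),
      Weight φ ((i : ℤ) - ((φ f).denom.natDegree : ℤ)) ((φ f).num.coeff i) ∧
      Weight φ ((i : ℤ) - ((φ f).denom.natDegree : ℤ)) ((φ f).denom.coeff i) := by
    intro f i
    set P := (φ f).num
    set Q := (φ f).denom
    have hQ : Q.Monic := RatFunc.monic_denom _
    have h := hc f
    rw [show (Q.map RatFunc.C).comp (X * C (par F)) = (Q.map RatFunc.C).comp (C (par F) * X) by rw [mul_comm X],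
      show (P.map RatFunc.C).comp (X * C (par F)) = (P.map RatFunc.C).comp (C (par F) * X) by rw [mul_comm X]] at h
    let c : E F := par F ^ Q.natDegree
    have hc0 : c ≠ 0 := pow_ne_zero _ hX
    have hcop : IsCoprime (Q.map φ) (P.map φ) :=
      ((RatFunc.isCoprime_num_denom (φ f)).symm).map (mapRingHom φ)
    have hcopQ : IsCoprime ((Q.map RatFunc.C).comp (C (par F) * X)) ((P.map RatFunc.C).comp (C (par F) * X)) :=
      ((RatFunc.isCoprime_num_denom (φ f)).symm).map
        ((compRingHom (C (par F) * X)).comp (mapRingHom (RatFunc.C : F →+* E F)))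
    have hass : Associated ((Q.map RatFunc.C).comp (C (par F) * X)) (Q.map φ) := associated_of_dvd_dvd
      (hcopQ.dvd_of_dvd_mul_left ⟨P.map φ, by linear_combination -h⟩)
      (hcop.dvd_of_dvd_mul_left ⟨(P.map RatFunc.C).comp (C (par F) * X), by linear_combination h⟩)
    obtain ⟨v, hv⟩ := hass.symm
    obtain ⟨r, -, hr⟩ := Polynomial.isUnit_iff.1 v.isUnit
    rw [← hr] at hv
    have hQφ : (Q.map φ).Monic := hQ.map _
    have hrc : r = c := by
      have h1 := congrArg (fun p => Polynomial.coeff p Q.natDegree) hv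
      simp only [coeff_mul_C, comp_C_mul_X_coeff, coeff_map, hQ.coeff_natDegree, map_one, one_mul] at h1
      exact h1
    have hP : (P.map φ) * C r = (P.map RatFunc.C).comp (C (par F) * X) := by
      refine mul_right_cancel₀ hQφ.ne_zero ?_
      rw [← h, ← hv]; ring
    have key : ∀ R : F[X], (R.map φ) * C r = (R.map RatFunc.C).comp (C (par F) * X) →
        Weight φ ((i : ℤ) - (Q.natDegree : ℤ)) (R.coeff i) := by
      intro R hR
      have h1 := congrArg (fun p => Polynomial.coeff p i) hR
      simp only [coeff_mul_C, comp_C_mul_X_coeff, coeff_map, hrc] at h1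
      show φ _ = _
      rw [zpow_sub₀ hX, zpow_natCast, zpow_natCast, ← mul_div_assoc, eq_div_iff hc0]
      exact h1
    exact ⟨key P hP, key Q hv⟩
  have hW0 : ∀ {x}, Weight φ 0 x → x ∈ L := fun {x} hx => by
    show φ x = _; rw [hx, zpow_zero, mul_one]
  have hWmul : ∀ {a b x y}, Weight φ a x → Weight φ b y → Weight φ (a + b) (x * y) := fun {a b x y} hx hy => by
    show φ _ = _; rw [map_mul, map_mul, hx, hy, zpow_add₀ hX]; ring
  have hWinv : ∀ {a x}, Weight φ a x → Weight φ (-a) x⁻¹ := fun {a x} hx => by
    show φ _ = _; rw [map_inv₀, map_inv₀, hx, mul_inv, zpow_neg]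
  let G : AddSubgroup ℤ :=
    { carrier := {a | ∃ x, x ≠ 0 ∧ Weight φ a x}
      add_mem' := fun {a b} ⟨x, hx, hwx⟩ ⟨y, hy, hwy⟩ => ⟨x * y, mul_ne_zero hx hy, hWmul hwx hwy⟩
      zero_mem' := ⟨1, one_ne_zero, by show φ 1 = _; simp⟩
      neg_mem' := fun {a} ⟨x, hx, hwx⟩ => ⟨x⁻¹, inv_ne_zero hx, hWinv hwx⟩ }
  obtain ⟨d, hd⟩ := Int.subgroup_cyclic G
  have hdmem : d ∈ G := hd ▸ AddSubgroup.mem_closure_singleton_self d
  obtain ⟨s, hs0, hs⟩ := hdmem
  have hgen : ∀ f : F, f ∈ IntermediateField.adjoin K (L ∪ {s}) := by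
    intro f
    have hx : ∀ {a x}, Weight φ a x → x ∈ IntermediateField.adjoin K (L ∪ {s}) := by
      intro a x hw
      rcases eq_or_ne x 0 with rfl | hx0
      · exact zero_mem _
      have : a ∈ AddSubgroup.closure {d} := hd ▸ (⟨x, hx0, hw⟩ : a ∈ G)
      obtain ⟨j, rfl⟩ := AddSubgroup.mem_closure_singleton.1 this
      have hsj : Weight φ (j • d) (s ^ j) := by
        show φ _ = _
        rw [map_zpow₀, hs, map_zpow₀, mul_zpow, ← zpow_mul, zsmul_eq_mul, Int.cast_id, mul_comm d j]
      have hl : x * (s ^ j)⁻¹ ∈ L := hW0 (by simpa using hWmul hw (hWinv hsj))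
      have : x = x * (s ^ j)⁻¹ * s ^ j := by rw [inv_mul_cancel_right₀ (zpow_ne_zero j hs0)]
      rw [this]
      exact mul_mem (IntermediateField.subset_adjoin _ _ (Or.inl hl))
        (zpow_mem (IntermediateField.subset_adjoin K (L ∪ {s}) (Or.inr (Set.mem_singleton s))) j)
    obtain ⟨hq, hf⟩ := hu f
    rw [eq_comm, ← eq_div_iff hq] at hf
    rw [hf]
    refine div_mem ?_ ?_ <;>
    · rw [eval_eq_sum, Polynomial.sum]
      exact sum_mem fun i _ => by
        rw [one_pow, mul_one]
        first
          | exact hx (hwt f i).1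
          | exact hx (hwt f i).2
  have hd0 : d ≠ 0 := by
    rintro rfl
    refine hnt (RingHom.ext fun f => ?_)
    have hsL : s ∈ L := hW0 hs
    have : IntermediateField.adjoin K (L ∪ {s}) ≤
        ({ carrier := L
           mul_mem' := fun {a b} (ha : φ a = _) (hb : φ b = _) => by
             show φ (a * b) = _; rw [map_mul, map_mul, ha, hb]
           add_mem' := fun {a b} (ha : φ a = _) (hb : φ b = _) => by
             show φ (a + b) = _; rw [map_add, map_add, ha, hb]
           algebraMap_mem' := hφK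
           inv_mem' := fun a (ha : φ a = _) => by show φ a⁻¹ = _; rw [map_inv₀, map_inv₀, ha] } : IntermediateField K F) :=
      IntermediateField.adjoin_le_iff.2 fun x hx => hx.elim id fun h => (Set.mem_singleton_iff.1 h).symm ▸ hsL
    exact this (hgen f)
  refine hasSlice_of_generates φ hφK hfg s ?_ hgen
  intro halg
  rw [hs] at halg
  have h1 : IsAlgebraic F (RatFunc.C s : E F) := by
    rw [← RatFunc.algebraMap_eq_C]; exact isAlgebraic_algebraMap s
  have h2 : IsAlgebraic F (par F ^ d) := by
    have := h1.inv.mul halg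
    rwa [inv_mul_cancel_left₀ (fun h => hs0 (by simpa using h))] at this
  have h3 : IsAlgebraic F (par F ^ d.natAbs) := by
    rcases Int.natAbs_eq d with h | h
    · rw [h, zpow_natCast] at h2; exact h2
    · rw [h, zpow_neg, zpow_natCast] at h2; simpa using h2.inv
  exact RatFunc.transcendental_X (IsAlgebraic.of_pow (Int.natAbs_pos.2 hd0) h3)

/-! ### The additive group -/

/-- The elements with polynomial orbit map. -/
def Pol (φ : F →+* E F) (f : F) (P : F[X]) : Prop := φ f = algebraMap F[X] (E F) P

theorem map_C_comp_X_add (R : F[X]) (i : ℕ) :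
    ((R.map (RatFunc.C : F →+* E F)).comp (X + C (par F))).coeff i =
      algebraMap F[X] (E F) (hasseDeriv i R) := by
  rw [← taylor_apply, taylor_coeff]
  have e : hasseDeriv i (R.map (RatFunc.C : F →+* E F)) = (hasseDeriv i R).map RatFunc.C := by
    ext m; simp [hasseDeriv_coeff, coeff_map]
  rw [e, eval_map, algebraMap_eq_sum, eval₂_eq_sum, Polynomial.sum]

/-- Consecutive binomial coefficients all vanishing forces divisibility. -/
theorem dvd_of_choose_eq_zero {R : Type*} [CommRing R] [Nontrivial R] {d e : ℕ} (hd : 0 < d)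
    (h1 : ∀ j, 0 < j → j < d → (d.choose j : R) = 0)
    (h2 : ∀ j, 0 < j → j < d → (e.choose j : R) = 0) : d ∣ e := by
  by_contra hne
  have hr : 0 < e % d := Nat.pos_of_ne_zero fun h => hne (Nat.dvd_of_mod_eq_zero h)
  have hrd : e % d < d := Nat.mod_lt _ hd
  have hfd : ((1 + X) ^ d : R[X]) = 1 + X ^ d := by
    ext j
    rw [coeff_one_add_X_pow, coeff_add, coeff_one, coeff_X_pow]
    rcases Nat.eq_zero_or_pos j with rfl | hj
    · simp [hd.ne]
    rcases lt_trichotomy j d with h | rfl | h
    · simp [h1 j hj h, hj.ne', h.ne]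
    · simp [hd.ne']
    · simp [Nat.choose_eq_zero_of_lt h, hj.ne', h.ne']
  have key : ((1 + X) ^ e : R[X]).coeff (e % d) = 1 := by
    conv_lhs => arg 1; rw [← Nat.div_add_mod e d, pow_add, pow_mul, hfd]
    rw [coeff_mul, Finset.sum_eq_single (0, e % d)]
    · simp [coeff_one_add_X_pow, coeff_zero_eq_eval_zero, hd.ne', Nat.choose_self]
    · rintro ⟨a, b⟩ hab hne'
      rw [Finset.HasAntidiagonal.mem_antidiagonal] at hab
      have ha : 0 < a := Nat.pos_of_ne_zero fun h => hne' (by subst h; simp at hab; simp [hab])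
      have had : a < d := by omega
      have : (((1 : R[X]) + X ^ d) ^ (e / d)).coeff a = 0 := by
        have hx : ((1 : R[X]) + X ^ d) ^ (e / d) = expand R d ((1 + X) ^ (e / d)) := by
          simp [expand_X]
        rw [hx, coeff_expand hd, if_neg fun h => (Nat.le_of_dvd ha h).not_gt had]
      simp only
      rw [this, zero_mul]
    · simp
  rw [coeff_one_add_X_pow, h2 _ hr hrd] at key
  exact zero_ne_one key

theorem hasSlice_ga (φ : F →+* E F) (hφK : ∀ a, φ (algebraMap K F a) = RatFunc.C (algebraMap K F a))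
    (hfg : ∃ S0 : Finset F, IntermediateField.adjoin K (↑S0 : Set F) = ⊤)
    (hu : UnitLaw φ 0) (hc : Cocycle φ (X + C (par F))) (hnt : φ ≠ RatFunc.C) : HasSlice K F := by
  classical
  have hinj : Function.Injective (algebraMap F[X] (E F)) := RatFunc.algebraMap_injective F
  -- polynomial orbit maps of coefficients
  have hcoef : ∀ (f : F) (i : ℕ), Pol φ ((φ f).num.coeff i) (hasseDeriv i (φ f).num) ∧
      Pol φ ((φ f).denom.coeff i) (hasseDeriv i (φ f).denom) := by
    intro f i
    set P := (φ f).num
    set Q := (φ f).denom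
    have hQ : Q.Monic := RatFunc.monic_denom _
    have h := hc f
    have hcop : IsCoprime (Q.map φ) (P.map φ) :=
      ((RatFunc.isCoprime_num_denom (φ f)).symm).map (mapRingHom φ)
    have hcopQ : IsCoprime ((Q.map RatFunc.C).comp (X + C (par F))) ((P.map RatFunc.C).comp (X + C (par F))) :=
      ((RatFunc.isCoprime_num_denom (φ f)).symm).map
        ((compRingHom (X + C (par F))).comp (mapRingHom (RatFunc.C : F →+* E F)))
    have heq : (Q.map RatFunc.C).comp (X + C (par F)) = Q.map φ := eq_of_monic_of_associated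
      ((hQ.map _).comp_X_add_C _) (hQ.map _) (associated_of_dvd_dvd
        (hcopQ.dvd_of_dvd_mul_left ⟨P.map φ, by linear_combination -h⟩)
        (hcop.dvd_of_dvd_mul_left ⟨(P.map RatFunc.C).comp (X + C (par F)), by linear_combination h⟩))
    have hP : (P.map RatFunc.C).comp (X + C (par F)) = P.map φ :=
      mul_right_cancel₀ (hQ.map φ).ne_zero (by rw [← h, heq])
    constructor
    · show φ _ = _; rw [← map_C_comp_X_add, hP, coeff_map]
    · show φ _ = _; rw [← map_C_comp_X_add, heq, coeff_map]
  have hpolcoef : ∀ {f P}, Pol φ f P → ∀ i, Pol φ (P.coeff i) (hasseDeriv i P) := by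
    intro f P hP i
    have h1 := (hcoef f i).1
    rwa [hP, RatFunc.num_algebraMap] at h1
  have hpol0 : ∀ {f P}, Pol φ f P → P.coeff 0 = f := by
    intro f P hP
    have h1 := (hu f).2
    rw [hP, RatFunc.num_algebraMap, RatFunc.denom_algebraMap, eval_one, mul_one,
      ← coeff_zero_eq_eval_zero] at h1
    exact h1
  have hconst : ∀ {f P}, Pol φ f P → P.natDegree = 0 → φ f = RatFunc.C f := by
    intro f P hP hdeg
    have h0 := hpol0 hP
    show φ f = _
    rw [hP, eq_C_of_natDegree_eq_zero hdeg, h0, RatFunc.algebraMap_C]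
  -- a non constant element
  have hex : ∃ d : ℕ, 0 < d ∧ ∃ f P, Pol φ f P ∧ P.natDegree = d := by
    by_contra hno
    refine hnt (RingHom.ext fun f => ?_)
    have hall : ∀ {g P}, Pol φ g P → φ g = RatFunc.C g := fun {g P} hP =>
      hconst hP (Nat.eq_zero_of_not_pos fun hpos => hno ⟨_, hpos, g, P, hP, rfl⟩)
    obtain ⟨hq, hf⟩ := hu f
    rw [← coeff_zero_eq_eval_zero, ← coeff_zero_eq_eval_zero] at hf
    rw [← coeff_zero_eq_eval_zero] at hq
    rw [eq_comm, ← eq_div_iff hq] at hf
    rw [hf, map_div₀, map_div₀, hall (hcoef f 0).1, hall (hcoef f 0).2]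
  let d := Nat.find hex
  obtain ⟨hdpos, f0, P0, hP0, hP0d⟩ := Nat.find_spec hex
  have hsmall : ∀ {g P}, Pol φ g P → P.natDegree < d → φ g = RatFunc.C g := fun {g P} hP hlt =>
    hconst hP (Nat.eq_zero_of_not_pos fun hpos => Nat.find_min hex hlt ⟨hpos, g, P, hP, rfl⟩)
  have hlead : ∀ {g P}, Pol φ g P → φ P.leadingCoeff = RatFunc.C P.leadingCoeff := by
    intro g P hP
    refine hsmall (hpolcoef hP P.natDegree) ?_
    exact (natDegree_hasseDeriv_le P P.natDegree).trans_lt (by rw [Nat.sub_self]; exact hdpos)
  let c := P0.leadingCoeff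
  have hc0 : c ≠ 0 := leadingCoeff_ne_zero.2 fun h => by
    rw [h, natDegree_zero] at hP0d; exact hdpos.ne hP0d
  let s := f0 / c
  let A := C c⁻¹ * P0
  have hA : Pol φ s A := by
    show φ (f0 / c) = _
    rw [map_div₀, hP0, hlead hP0, map_mul, RatFunc.algebraMap_C, map_inv₀, div_eq_inv_mul]
  have hAd : A.natDegree = d := by rw [natDegree_C_mul (inv_ne_zero hc0)]; exact hP0d
  have hAm : A.Monic := by
    show leadingCoeff _ = 1
    rw [leadingCoeff_mul, leadingCoeff_C]; exact inv_mul_cancel₀ hc0
  -- vanishing of low binomial coefficients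
  have hchoose : ∀ {g P}, Pol φ g P → P ≠ 0 → ∀ j, 0 < j → j < d → (P.natDegree.choose j : F) = 0 := by
    intro g P hP hP0' j hj hjd
    rcases lt_or_ge P.natDegree j with h | h
    · rw [Nat.choose_eq_zero_of_lt h, Nat.cast_zero]
    · by_contra hne
      have h1 := hpolcoef hP (P.natDegree - j)
      have hdeg : (hasseDeriv (P.natDegree - j) P).natDegree ≤ j :=
        (natDegree_hasseDeriv_le _ _).trans (by omega)
      have h2 : φ (P.coeff (P.natDegree - j)) = RatFunc.C (P.coeff (P.natDegree - j)) := hsmall h1 (by omega)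
      rw [h1, ← RatFunc.algebraMap_C] at h2
      have h3 := congrArg (fun p => p.coeff j) (hinj h2)
      simp only [hasseDeriv_coeff, coeff_C, hj.ne', if_false] at h3
      rw [show j + (P.natDegree - j) = P.natDegree by omega, Nat.choose_symm h, coeff_natDegree,
        mul_eq_zero] at h3
      exact h3.elim hne fun h0 => hP0' (leadingCoeff_eq_zero.1 h0)
  let L : Set F := {x | φ x = RatFunc.C x}
  have hind : ∀ (n : ℕ) {g P}, Pol φ g P → P.natDegree ≤ n → g ∈ IntermediateField.adjoin K (L ∪ {s}) := by
    intro n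
    induction n with
    | zero =>
      intro g P hP hn
      exact IntermediateField.subset_adjoin _ _ (Or.inl (hconst hP (Nat.le_zero.1 hn)))
    | succ n ih =>
      intro g P hP hn
      rcases Nat.lt_or_ge P.natDegree (n + 1) with h | h
      · exact ih hP (by omega)
      have hPn : P.natDegree = n + 1 := le_antisymm hn h
      have hPne : P ≠ 0 := fun h0 => by simp [h0] at hPn
      obtain ⟨q, hq⟩ : d ∣ P.natDegree := dvd_of_choose_eq_zero hdpos
        (fun j hj hjd => by simpa [hAd] using hchoose hA hAm.ne_zero j hj hjd)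
        (hchoose hP hPne)
      let a := P.leadingCoeff
      let P' := P - C a * A ^ q
      have hP' : Pol φ (g - a * s ^ q) P' := by
        show φ _ = _
        simp only [map_sub, map_mul, map_pow, show φ g = _ from hP, show φ s = _ from hA, show φ a = _ from hlead hP, RatFunc.algebraMap_C, a, P', A]
      have hdegA : (C a * A ^ q).natDegree = P.natDegree := by
        rw [natDegree_C_mul (leadingCoeff_ne_zero.2 hPne), natDegree_pow, hAd, hq, mul_comm]
      have hP'deg : P'.natDegree ≤ n := by
        rw [natDegree_le_iff_coeff_eq_zero]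
        intro m hm
        rcases Nat.lt_or_ge (n + 1) m with hm' | hm'
        · rw [coeff_sub, coeff_eq_zero_of_natDegree_lt (by omega), coeff_eq_zero_of_natDegree_lt (by omega), sub_zero]
        · have hmn : m = P.natDegree := by omega
          rw [coeff_sub, hmn, coeff_natDegree]
          rw [← hdegA, coeff_natDegree, leadingCoeff_mul, leadingCoeff_C, (hAm.pow q).leadingCoeff, mul_one]
          exact sub_self _
      have : g = (g - a * s ^ q) + a * s ^ q := by ring
      rw [this]
      exact add_mem (ih hP' hP'deg) (mul_mem (IntermediateField.subset_adjoin K (L ∪ {s}) (Or.inl (hlead hP)))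
        (pow_mem (IntermediateField.subset_adjoin K (L ∪ {s}) (Or.inr (Set.mem_singleton s))) q))
  refine hasSlice_of_generates φ hφK hfg s ?_ fun f => ?_
  · rw [hA]
    refine RatFunc.transcendental_of_ne_C _ fun ⟨r, hr⟩ => ?_
    rw [← RatFunc.algebraMap_C] at hr
    have h := congrArg natDegree (hinj hr)
    rw [hAd, natDegree_C] at h
    exact hdpos.ne' h
  · obtain ⟨hq, hf⟩ := hu f
    rw [← coeff_zero_eq_eval_zero, ← coeff_zero_eq_eval_zero] at hf
    rw [← coeff_zero_eq_eval_zero] at hq
    rw [eq_comm, ← eq_div_iff hq] at hf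
    rw [hf]
    exact div_mem (hind _ (hcoef f 0).1 le_rfl) (hind _ (hcoef f 0).2 le_rfl)

end Groth.Agent.ActRat
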