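import Groth.Agent.ActRat.Point
import Groth.Agent.BGaNotS.GaPts
import Groth.Prelude.Def_GmPts

/-!
# Coordinates of the additive and the multiplicative group
-/

set_option autoImplicit false
set_option linter.style.haveILetI false
universe u

open CategoryTheory Limits MonoidalCategory CartesianMonoidalCategory MonObj GrpObj AlgebraicGeometry

noncomputable section

namespace Groth.Agent.ActRat

variable {K : Type u} [Field K] {G : Over (Spec (CommRingCat.of K))} [GrpObj G]

/-- An element as a global function. -/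
abbrev fn {R : Type u} [CommRing R] [Algebra K R] : R →+* Γ((W K R).left, ⊤) :=
  (Scheme.ΓSpecIso (CommRingCat.of R)).inv.hom

theorem fn_surjective {R : Type u} [CommRing R] [Algebra K R] : Function.Surjective (fn (K := K) (R := R)) :=
  fun x => ⟨(Scheme.ΓSpecIso (CommRingCat.of R)).hom x, congr($((Scheme.ΓSpecIso (CommRingCat.of R)).hom_inv_id) x)⟩

theorem fn_natural {R R' : Type u} [CommRing R] [Algebra K R] [CommRing R'] [Algebra K R'] (h : R →ₐ[K] R')
    (r : R) : (WM h).left.appTop (fn (K := K) r) = fn (K := K) (h r) :=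
  (congr($(Scheme.ΓSpecIso_inv_naturality (CommRingCat.ofHom (h : R →+* R'))) r)).symm

/-- Transport of coordinates along an isomorphism of groups. -/
def Coord.transport {H : Over (Spec (CommRingCat.of K))} [GrpObj H] (C : Coord K H) (e : Grp.mk G ≅ Grp.mk H) :
    Coord K G where
  e := C.e
  pt R _ _ r hr := C.pt R r hr ≫ e.inv.hom.hom
  pt_comp h r hr := by rw [← Category.assoc, C.pt_comp]
  surj R _ _ x := by
    obtain ⟨r, hr, h⟩ := C.surj R (x ≫ e.hom.hom.hom)
    refine ⟨r, hr, ?_⟩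
    have hid : e.hom.hom.hom ≫ e.inv.hom.hom = 𝟙 G :=
      congrArg (fun m : Grp.mk G ⟶ Grp.mk G => m.hom.hom) e.hom_inv_id
    rw [← h, Category.assoc, hid, Category.comp_id]
  op := C.op
  map_op := C.map_op
  pt_mul R _ _ r r' hr hr' := by
    obtain ⟨h, hh⟩ := C.pt_mul R r r' hr hr'
    haveI : IsMonHom e.inv.hom.hom := e.inv.hom.isMonHom_hom
    exact ⟨h, by rw [← hh, MonObj.mul_comp]⟩
  c := C.c
  hc := C.hc
  pt_c R _ _ h := by
    haveI : IsMonHom e.inv.hom.hom := e.inv.hom.isMonHom_hom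
    rw [C.pt_c, MonObj.one_comp]

variable (K) in
/-- Coordinates of the additive group. -/
def gaStd : Coord K (Red.Ga (Spec (CommRingCat.of K))) where
  e := 0
  pt R _ _ r _ := BGaNotS.gaPt (fn (K := K) r)
  pt_comp h r _ := BGaNotS.gaPt_ext (by
    rw [BGaNotS.gaFn_comp, BGaNotS.gaFn_gaPt, BGaNotS.gaFn_gaPt, fn_natural])
  surj R _ _ x := by
    obtain ⟨r, hr⟩ := fn_surjective (K := K) (Red.gaFn x)
    exact ⟨r, by simp, BGaNotS.gaPt_ext (by rw [BGaNotS.gaFn_gaPt, hr])⟩
  op a b := a + b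
  map_op h a b := map_add h a b
  pt_mul R _ _ r r' _ _ := ⟨by simp, BGaNotS.gaPt_ext (by
    rw [BGaNotS.gaFn_mul, BGaNotS.gaFn_gaPt, BGaNotS.gaFn_gaPt, BGaNotS.gaFn_gaPt, map_add])⟩
  c := 0
  hc := pow_zero _
  pt_c R _ _ _ := BGaNotS.gaPt_ext (by rw [BGaNotS.gaFn_gaPt, BGaNotS.gaFn_one, Nat.cast_zero, map_zero])

theorem gmPt_ext {T : Over (Spec (CommRingCat.of K))} {x y : T ⟶ Red.Gm (Spec (CommRingCat.of K))}
    (h : Red.gmFn x = Red.gmFn y) : x = y :=
  (GmPts.equiv T).injective (Units.ext h)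

theorem gmFn_ptOfUnit {T : Over (Spec (CommRingCat.of K))} (v : (Γ(T.left, ⊤))ˣ) :
    Red.gmFn (GmPts.ptOfUnit (S := Spec (CommRingCat.of K)) v) = v :=
  congrArg Units.val ((GmPts.equiv T).apply_symm_apply v)

theorem gmFn_mul' {T : Over (Spec (CommRingCat.of K))} (x y : T ⟶ Red.Gm (Spec (CommRingCat.of K))) :
    Red.gmFn (x * y) = Red.gmFn x * Red.gmFn y :=
  congrArg Units.val (GmPts.unitOfPt_mul x y)

theorem gmFn_one' {T : Over (Spec (CommRingCat.of K))} :
    Red.gmFn (1 : T ⟶ Red.Gm (Spec (CommRingCat.of K))) = 1 :=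
  congrArg Units.val (GmPts.unitOfPt_one (S := Spec (CommRingCat.of K)) (T := T))

variable (K) in
/-- Coordinates of the multiplicative group. -/
def gmStd : Coord K (Red.Gm (Spec (CommRingCat.of K))) where
  e := 1
  pt R _ _ r hr := GmPts.ptOfUnit (((pow_one r) ▸ hr).map (fn (K := K))).unit
  pt_comp h r hr := gmPt_ext (by
    rw [GmPts.gmFn_comp, gmFn_ptOfUnit, gmFn_ptOfUnit, IsUnit.unit_spec, IsUnit.unit_spec, fn_natural])
  surj R _ _ x := by
    obtain ⟨r, hr⟩ := fn_surjective (K := K) (Red.gmFn x)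
    have hu : IsUnit r := by
      have h1 : IsUnit (Red.gmFn x) := (GmPts.unitOfPt x).isUnit
      rw [← hr] at h1
      have h2 := h1.map (Scheme.ΓSpecIso (CommRingCat.of R)).hom.hom
      rwa [show (Scheme.ΓSpecIso (CommRingCat.of R)).hom (fn (K := K) r) = r from
        congr($((Scheme.ΓSpecIso (CommRingCat.of R)).inv_hom_id) r)] at h2
    exact ⟨r, by simpa using hu, gmPt_ext (by rw [gmFn_ptOfUnit, IsUnit.unit_spec, hr])⟩
  op a b := a * b
  map_op h a b := map_mul h a b
  pt_mul R _ _ r r' hr hr' := ⟨by rw [mul_pow]; exact hr.mul hr', gmPt_ext (by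
    rw [gmFn_mul', gmFn_ptOfUnit, gmFn_ptOfUnit, gmFn_ptOfUnit, IsUnit.unit_spec, IsUnit.unit_spec, IsUnit.unit_spec, map_mul])⟩
  c := 1
  hc := one_pow _
  pt_c R _ _ h := gmPt_ext (by
    rw [gmFn_ptOfUnit, IsUnit.unit_spec, Nat.cast_one, map_one, gmFn_one'])

/-- Coordinates on a copy of the additive group. -/
abbrev gaCoord (e : Grp.mk G ≅ Grp.mk (Red.Ga (Spec (CommRingCat.of K)))) : Coord K G := (gaStd K).transport e

/-- Coordinates on a copy of the multiplicative group. -/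
abbrev gmCoord (e : Grp.mk G ≅ Grp.mk (Red.Gm (Spec (CommRingCat.of K)))) : Coord K G := (gmStd K).transport e

end Groth.Agent.ActRat
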