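import Groth.Agent.ActRat.Point
import Groth.Agent.S7629

/-!
# A slice of the function field gives a birational product decomposition
-/

set_option autoImplicit false
set_option linter.style.haveILetI false
universe u

open CategoryTheory Limits AlgebraicGeometry

noncomputable section

namespace Groth.Agent.ActRat

variable {K : Type u} [Field K]

theorem fromSpecStalk_comp {X : Scheme.{u}} [X.Over (Spec (CommRingCat.of K))] (x : X) :
    X.fromSpecStalk x ≫ (X ↘ Spec (CommRingCat.of K)) = Spec.map (CommRingCat.ofHom (Curv2.stalkMap K X x)) := by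
  apply ext_of_isAffine
  rw [← cancel_epi (Scheme.ΓSpecIso (CommRingCat.of K)).inv, ← Scheme.ΓSpecIso_inv_naturality,
    Scheme.Hom.comp_appTop, Scheme.fromSpecStalk_appTop]
  simp only [homOfLE_refl, op_id, CategoryTheory.Functor.map_id, Category.comp_id, ← Category.assoc]
  congr 1

variable (X : Over (Spec (CommRingCat.of K))) [IsIntegral X.left]

/-- Function fields of schemes of finite type are finitely generated. -/
theorem exists_generators [LocallyOfFiniteType X.hom] :
    letI := fieldAlgebra X
    ∃ S0 : Finset X.left.functionField, IntermediateField.adjoin K (↑S0 : Set X.left.functionField) = ⊤ := by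
  classical
  letI := fieldAlgebra X
  obtain ⟨_, ⟨U, hU, rfl⟩, hgU, -⟩ := X.left.isBasis_affineOpens.exists_subset_of_mem_open
    (Set.mem_univ (genericPoint X.left)) isOpen_univ
  haveI : Nonempty U := ⟨⟨_, hgU⟩⟩
  let R : Type u := Γ(X.left, U)
  let i0 : K →+* R := (Spec.preimage (hU.fromSpec ≫ X.hom)).hom
  have hi : i0.FiniteType := by
    have h : LocallyOfFiniteType (Spec.map (Spec.preimage (hU.fromSpec ≫ X.hom))) := by
      rw [Spec.map_preimage]; infer_instance
    exact (HasRingHomProperty.Spec_iff (P := @LocallyOfFiniteType)).1 h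
  letI : Algebra K R := i0.toAlgebra
  haveI : Algebra.FiniteType K R := RingHom.finiteType_algebraMap.1 hi
  haveI := functionField_isFractionRing_of_isAffineOpen X.left U hU
  have hcomm : ∀ t, algebraMap R X.left.functionField (i0 t) = algebraMap K X.left.functionField t := by
    intro t
    have h : Spec.map (X.left.presheaf.germ U _ hgU) ≫ Spec.map (CommRingCat.ofHom i0) =
        Spec.map (CommRingCat.ofHom (algebraMap K X.left.functionField)) := by
      rw [show Spec.map (CommRingCat.ofHom i0) = hU.fromSpec ≫ X.hom from Spec.map_preimage _, fieldAlgebra_w,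
        ← Category.assoc]
      congr 1
      exact hU.fromSpecStalk_eq_fromSpecStalk _
    rw [← Spec.map_comp] at h
    exact RingHom.congr_fun (congrArg CommRingCat.Hom.hom (Spec.map_injective h)) t
  let gA : R →ₐ[K] X.left.functionField := { algebraMap R X.left.functionField with commutes' := hcomm }
  obtain ⟨s, hs⟩ := (inferInstance : Algebra.FiniteType K R).out
  refine ⟨s.image gA, eq_top_iff.2 fun z _ => ?_⟩
  have hr : ∀ r : R, gA r ∈ IntermediateField.adjoin K (↑(s.image gA) : Set X.left.functionField) := by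
    intro r
    have : ⊤ ≤ (IntermediateField.adjoin K (↑(s.image gA) : Set X.left.functionField)).toSubalgebra.comap gA := by
      rw [← hs]
      exact Algebra.adjoin_le fun r hr => IntermediateField.subset_adjoin _ _ (Finset.mem_image_of_mem _ hr)
    exact this (Algebra.mem_top : r ∈ (⊤ : Subalgebra K R))
  obtain ⟨a, b, -, rfl⟩ := IsFractionRing.div_surjective (A := R) z
  exact div_mem (hr a) (hr b)

/-- The birational decomposition attached to a slice. -/
theorem exists_birational [LocallyOfFiniteType X.hom] [QuasiCompact X.hom] [IsSeparated X.hom]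
    (h : letI := fieldAlgebra X; HasSlice K X.left.functionField) :
    ∃ (Y : Over (Spec (CommRingCat.of K))) (_ : IsIntegral Y.left) (_ : LocallyOfFiniteType Y.hom)
      (U : X.left.Opens) (V : (𝔸(ULift.{u} (Fin 1); Y.left)).Opens), (U : Set X.left).Nonempty ∧
      Nonempty (Over.mk (U.ι ≫ X.hom) ≅
        Over.mk (V.ι ≫ (𝔸(ULift.{u} (Fin 1); Y.left) ↘ Y.left) ≫ Y.hom)) := by
  classical
  letI := fieldAlgebra X
  let F := X.left.functionField
  obtain ⟨S, s, hgen, htr⟩ := h
  let B0 : Subalgebra K F := Algebra.adjoin K (↑S : Set F)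
  haveI : Algebra.FiniteType K B0 := B0.fg_iff_finiteType.1 (Subalgebra.fg_adjoin_finset S)
  let P1 : Type u := MvPolynomial (ULift.{u} (Fin 1)) B0
  let evh : P1 →ₐ[B0] F := MvPolynomial.aeval fun _ => s
  have hinj : Function.Injective evh := by
    have hle : B0 ≤ (IntermediateField.adjoin K (↑S : Set F)).toSubalgebra :=
      Algebra.adjoin_le (IntermediateField.subset_adjoin _ _)
    letI : Algebra B0 (IntermediateField.adjoin K (↑S : Set F)) := (Subalgebra.inclusion hle).toRingHom.toAlgebra
    haveI : IsScalarTower B0 (IntermediateField.adjoin K (↑S : Set F)) F := IsScalarTower.of_algebraMap_eq fun _ => rfl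
    have h1 : Transcendental B0 s := Transcendental.of_ringHom_of_comp_eq
      (algebraMap B0 (IntermediateField.adjoin K (↑S : Set F))) (RingHom.id F) (a := s) htr
      (Subalgebra.inclusion_injective hle) rfl
    exact algebraicIndependent_iff_injective_aeval.1
      (algebraicIndependent_unique_type_iff.2 (show Transcendental B0 ((fun _ : ULift.{u} (Fin 1) => s) default) from h1))
  letI : Algebra P1 F := (evh : P1 →+* F).toAlgebra
  haveI : IsDomain P1 := inferInstanceAs (IsDomain (MvPolynomial (ULift.{u} (Fin 1)) B0))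
  haveI : FaithfulSMul P1 F := (faithfulSMul_iff_algebraMap_injective P1 F).2 hinj
  have hadj : ∀ r ∈ Algebra.adjoin K ((↑S : Set F) ∪ {s}), ∃ p : P1, evh p = r := by
    intro r hr
    have : Algebra.adjoin K ((↑S : Set F) ∪ {s}) ≤ (evh.restrictScalars K).range := by
      refine Algebra.adjoin_le fun x hx => ?_
      rcases hx with hx | hx
      · exact ⟨MvPolynomial.C ⟨x, Algebra.subset_adjoin hx⟩, MvPolynomial.aeval_C _ _⟩
      · exact ⟨MvPolynomial.X ⟨0⟩, (MvPolynomial.aeval_X _ _).trans (Set.mem_singleton_iff.1 hx).symm⟩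
    obtain ⟨p, hp⟩ := this hr
    exact ⟨p, hp⟩
  haveI : IsFractionRing P1 F := IsFractionRing.of_field _ _ fun z => by
    obtain ⟨r, hr, q, hq, rfl⟩ := IntermediateField.mem_adjoin_iff_div.1
      (hgen ▸ IntermediateField.mem_top : z ∈ IntermediateField.adjoin K ((↑S : Set F) ∪ {s}))
    obtain ⟨a, rfl⟩ := hadj r hr
    obtain ⟨b, rfl⟩ := hadj q hq
    exact ⟨a, b, rfl⟩
  let Z : Scheme.{u} := Spec (CommRingCat.of P1)
  letI : Z.Over (Spec (CommRingCat.of K)) := ⟨Spec.map (CommRingCat.ofHom (algebraMap K P1))⟩
  letI : X.left.Over (Spec (CommRingCat.of K)) := ⟨X.hom⟩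
  haveI : IsIntegral Z := inferInstanceAs (IsIntegral (Spec (CommRingCat.of P1)))
  haveI : LocallyOfFiniteType (Z ↘ Spec (CommRingCat.of K)) := by
    show LocallyOfFiniteType (Spec.map (CommRingCat.ofHom (algebraMap K P1)))
    rw [HasRingHomProperty.Spec_iff (P := @LocallyOfFiniteType)]
    haveI : Algebra.FiniteType B0 P1 := inferInstanceAs (Algebra.FiniteType B0 (MvPolynomial (ULift.{u} (Fin 1)) B0))
    exact RingHom.finiteType_algebraMap.2 (Algebra.FiniteType.trans (R := K) (S := B0) (A := P1) inferInstance inferInstance)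
  haveI : IsSeparated (X.left ↘ Spec (CommRingCat.of K)) := inferInstanceAs (IsSeparated X.hom)
  haveI : LocallyOfFiniteType (X.left ↘ Spec (CommRingCat.of K)) := inferInstanceAs (LocallyOfFiniteType X.hom)
  haveI : QuasiCompact (X.left ↘ Spec (CommRingCat.of K)) := inferInstanceAs (QuasiCompact X.hom)
  haveI : IsSeparated (Z ↘ Spec (CommRingCat.of K)) := inferInstanceAs (IsSeparated (Spec.map _))
  haveI : QuasiCompact (Z ↘ Spec (CommRingCat.of K)) := inferInstanceAs (QuasiCompact (Spec.map _))
  letI : Algebra P1 Z.functionField := instAlgebraCarrierFunctionFieldSpec (CommRingCat.of P1)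
  haveI : IsFractionRing P1 Z.functionField := functionField_isFractionRing_of_affine (CommRingCat.of P1)
  let eq : F ≃+* Z.functionField :=
    IsFractionRing.ringEquivOfRingEquiv (K := F) (L := Z.functionField) (RingEquiv.refl P1)
  obtain ⟨U, V, hU, ψ, hψ⟩ := S7629.result K X.left Z eq.toCommRingCatIso (by
    have h1 : Curv2.stalkMap K X.left (genericPoint X.left) = algebraMap K F :=
      congrArg CommRingCat.Hom.hom (Spec.map_injective ((fromSpecStalk_comp _).symm.trans (fieldAlgebra_w X).symm))
    have h2 : Curv2.stalkMap K Z (genericPoint Z) = (algebraMap P1 Z.functionField).comp (algebraMap K P1) := by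
      have e : Spec.map (CommRingCat.ofHom (algebraMap P1 Z.functionField)) = Z.fromSpecStalk (genericPoint Z) := by
        refine Eq.trans ?_ (Spec.fromSpecStalk_eq' (R := CommRingCat.of P1) (genericPoint Z)).symm
        rfl
      have e2 : Spec.map (CommRingCat.ofHom ((algebraMap P1 Z.functionField).comp (algebraMap K P1))) =
          Spec.map (CommRingCat.ofHom (Curv2.stalkMap K Z (genericPoint Z))) := by
        rw [CommRingCat.ofHom_comp, Spec.map_comp, e]
        exact fromSpecStalk_comp (X := Z) _
      exact congrArg CommRingCat.Hom.hom (Spec.map_injective e2).symm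
    rw [h1, h2]
    refine RingHom.ext fun t => ?_
    show eq (algebraMap K F t) = algebraMap P1 Z.functionField (algebraMap K P1 t)
    rw [show algebraMap K F t = algebraMap P1 F (algebraMap K P1 t) from
      ((evh.restrictScalars K).commutes t).symm]
    exact IsFractionRing.ringEquivOfRingEquiv_algebraMap _ _)
  let Y : Over (Spec (CommRingCat.of K)) := Over.mk (Spec.map (CommRingCat.ofHom (algebraMap K B0)))
  haveI : IsIntegral Y.left := inferInstanceAs (IsIntegral (Spec (CommRingCat.of B0)))
  haveI : LocallyOfFiniteType Y.hom := by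
    show LocallyOfFiniteType (Spec.map _)
    rw [HasRingHomProperty.Spec_iff (P := @LocallyOfFiniteType)]
    exact RingHom.finiteType_algebraMap.2 inferInstance
  let iA : Z ⟶ 𝔸(ULift.{u} (Fin 1); Y.left) :=
    (AffineSpace.SpecIso (ULift.{u} (Fin 1)) (CommRingCat.of B0)).inv
  haveI : IsIso iA := inferInstanceAs (IsIso (AffineSpace.SpecIso (ULift.{u} (Fin 1)) (CommRingCat.of B0)).inv)
  refine ⟨Y, inferInstance, inferInstance, U, (V.ι ≫ iA).opensRange, hU,
    ⟨Over.isoMk (ψ ≪≫ (V.ι ≫ iA).isoOpensRange) ?_⟩⟩
  show (ψ.hom ≫ (V.ι ≫ iA).isoOpensRange.hom) ≫ (V.ι ≫ iA).opensRange.ι ≫ (𝔸(ULift.{u} (Fin 1); Y.left) ↘ Y.left) ≫ Y.hom =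
    U.ι ≫ X.hom
  rw [Category.assoc, Scheme.Hom.isoOpensRange_hom_ι_assoc, Category.assoc]
  refine Eq.trans ?_ hψ
  congr 2
  show iA ≫ _ = _
  rw [← Category.assoc, show iA ≫ (𝔸(ULift.{u} (Fin 1); Y.left) ↘ Y.left) = Spec.map (CommRingCat.ofHom MvPolynomial.C)
    from AffineSpace.SpecIso_inv_over _]
  show Spec.map _ ≫ Spec.map _ = Spec.map _
  rw [← Spec.map_comp, ← CommRingCat.ofHom_comp]
  rfl

end Groth.Agent.ActRat
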