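import Groth.Agent.ActRat.Field
import Groth.Prelude.Def_AlgGrp
import Mathlib

/-!
# The coaction of a one-parameter group on the function field
-/

set_option autoImplicit false
set_option linter.style.haveILetI false
universe u

open CategoryTheory Limits MonoidalCategory CartesianMonoidalCategory MonObj GrpObj AlgebraicGeometry

noncomputable section

namespace Groth.Agent.ActRat

variable {K : Type u} [Field K]

/-- Affine test objects. -/
abbrev W (K R : Type u) [Field K] [CommRing R] [Algebra K R] : Over (Spec (CommRingCat.of K)) :=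
  Over.mk (Spec.map (CommRingCat.ofHom (algebraMap K R)))

/-- Maps of affine test objects. -/
def WM {R R' : Type u} [CommRing R] [Algebra K R] [CommRing R'] [Algebra K R'] (h : R →ₐ[K] R') :
    W K R' ⟶ W K R :=
  Over.homMk (Spec.map (CommRingCat.ofHom (h : R →+* R'))) (by
    show Spec.map _ ≫ Spec.map _ = Spec.map _
    rw [← Spec.map_comp, ← CommRingCat.ofHom_comp]
    congr 2
    exact h.comp_algebraMap)

theorem WM_comp {R R' R'' : Type u} [CommRing R] [Algebra K R] [CommRing R'] [Algebra K R']
    [CommRing R''] [Algebra K R''] (h : R →ₐ[K] R') (h' : R' →ₐ[K] R'') :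
    WM h' ≫ WM h = WM (h'.comp h) := by
  apply Over.OverMorphism.ext
  show Spec.map _ ≫ Spec.map _ = Spec.map _
  rw [← Spec.map_comp, ← CommRingCat.ofHom_comp]
  rfl

theorem WM_id {R : Type u} [CommRing R] [Algebra K R] : WM (AlgHom.id K R) = 𝟙 (W K R) := by
  apply Over.OverMorphism.ext
  exact Spec.map_id _

/-- Coordinates of a one-parameter group. -/
structure Coord (K : Type u) [Field K] (G : Over (Spec (CommRingCat.of K))) [GrpObj G] where
  /-- points invert `r ^ e` -/
  e : ℕ
  /-- the point with coordinate `r` -/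
  pt : ∀ (R : Type u) [CommRing R] [Algebra K R] (r : R), IsUnit (r ^ e) → (W K R ⟶ G)
  pt_comp : ∀ {R R' : Type u} [CommRing R] [Algebra K R] [CommRing R'] [Algebra K R'] (h : R →ₐ[K] R')
    (r : R) (hr : IsUnit (r ^ e)), WM h ≫ pt R r hr = pt R' (h r) (map_pow h r e ▸ hr.map h)
  surj : ∀ (R : Type u) [CommRing R] [Algebra K R] (x : W K R ⟶ G), ∃ (r : R) (hr : IsUnit (r ^ e)), x = pt R r hr
  /-- the law -/
  op : ∀ {R : Type u} [CommRing R], R → R → R
  map_op : ∀ {R R' : Type u} [CommRing R] [CommRing R'] (h : R →+* R') (a b : R), h (op a b) = op (h a) (h b)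
  pt_mul : ∀ (R : Type u) [CommRing R] [Algebra K R] (r r' : R) (hr : IsUnit (r ^ e)) (hr' : IsUnit (r' ^ e)),
    ∃ h : IsUnit ((op r r') ^ e), pt R r hr * pt R r' hr' = pt R (op r r') h
  /-- the neutral coordinate -/
  c : ℕ
  hc : c ^ e = 1
  pt_c : ∀ (R : Type u) [CommRing R] [Algebra K R] (h : IsUnit ((c : R) ^ e)), pt R (c : R) h = 1

theorem Coord.isUnit_c {G : Over (Spec (CommRingCat.of K))} [GrpObj G] (C : Coord K G) (R : Type u)
    [CommRing R] : IsUnit ((C.c : R) ^ C.e) := by
  rw [← Nat.cast_pow, C.hc, Nat.cast_one]; exact isUnit_one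

theorem Coord.pt_congr {G : Over (Spec (CommRingCat.of K))} [GrpObj G] (C : Coord K G) {R : Type u}
    [CommRing R] [Algebra K R] {r r' : R} (h : r = r') (hr : IsUnit (r ^ C.e)) (hr' : IsUnit (r' ^ C.e)) :
    C.pt R r hr = C.pt R r' hr' := by
  subst h; rfl

section Action

variable {G X : Over (Spec (CommRingCat.of K))} [GrpObj G] (a : AlgGrp.Action G X)

theorem act_act {T : Over (Spec (CommRingCat.of K))} (g h : T ⟶ G) (x : T ⟶ X) :
    lift g (lift h x ≫ a.act) ≫ a.act = lift (g * h) x ≫ a.act := by
  have e1 : lift g (lift h x ≫ a.act) = lift (lift g h) x ≫ (α_ G G X).hom ≫ (G ◁ a.act) := by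
    rw [← Category.assoc, lift_lift_associator_hom, lift_whiskerLeft]
  rw [e1, Category.assoc, Category.assoc, ← a.mul_act, ← Category.assoc, lift_whiskerRight]
  rfl

theorem one_act' {T : Over (Spec (CommRingCat.of K))} (x : T ⟶ X) : lift 1 x ≫ a.act = x := by
  have e1 : lift (1 : T ⟶ G) x = lift (toUnit T) x ≫ (η[G] ▷ X) := by
    rw [lift_whiskerRight]; rfl
  rw [e1, Category.assoc, a.one_act, lift_leftUnitor_hom]

end Action

/-- The factorisation of a local point with closed point at `x` through the stalk at `x`. -/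
theorem exists_stalk_hom {Y : Scheme.{u}} (R : Type u) [CommRing R] [IsLocalRing R]
    (f : Spec (CommRingCat.of R) ⟶ Y) (x : Y) (hx : f (IsLocalRing.closedPoint R) = x) :
    ∃ φ : Y.presheaf.stalk x →+* R, Spec.map (CommRingCat.ofHom φ) ≫ Y.fromSpecStalk x = f := by
  subst hx
  exact ⟨(Scheme.stalkClosedPointTo f).hom, Scheme.Spec_stalkClosedPointTo_fromSpecStalk f⟩

variable {X : Over (Spec (CommRingCat.of K))} [IsIntegral X.left]

/-- The algebra structure of the function field. -/
@[reducible] def fieldAlgebra (X : Over (Spec (CommRingCat.of K))) [IsIntegral X.left] : Algebra K X.left.functionField :=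
  (Spec.preimage (X.left.fromSpecStalk (genericPoint X.left) ≫ X.hom)).hom.toAlgebra

theorem fieldAlgebra_w (X : Over (Spec (CommRingCat.of K))) [IsIntegral X.left] :
    letI := fieldAlgebra X
    Spec.map (CommRingCat.ofHom (algebraMap K X.left.functionField)) =
      X.left.fromSpecStalk (genericPoint X.left) ≫ X.hom := Spec.map_preimage _

/-- The generic point as a morphism over the base. -/
def genOver (X : Over (Spec (CommRingCat.of K))) [IsIntegral X.left] :
    letI := fieldAlgebra X
    W K X.left.functionField ⟶ X :=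
  letI := fieldAlgebra X
  Over.homMk (X.left.fromSpecStalk (genericPoint X.left)) (fieldAlgebra_w X).symm

theorem genOver_inj {R : Type u} [CommRing R] [Algebra K R] :
    letI := fieldAlgebra X
    ∀ h h' : X.left.functionField →ₐ[K] R, WM h ≫ genOver X = WM h' ≫ genOver X → h = h' := by
  letI := fieldAlgebra X
  intro h h' e
  have e' : Spec.map (CommRingCat.ofHom (h : X.left.functionField →+* R)) ≫ X.left.fromSpecStalk (genericPoint X.left) =
      Spec.map (CommRingCat.ofHom (h' : X.left.functionField →+* R)) ≫ X.left.fromSpecStalk (genericPoint X.left) :=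
    congrArg CommaMorphism.left e
  have e2 := Spec.map_injective ((cancel_mono _).1 e')
  exact AlgHom.ext fun z => RingHom.congr_fun (congrArg CommRingCat.Hom.hom e2) z

/-- Substitutions `X ↦ w` as a map of rational function fields. -/
theorem exists_subst {F F' : Type u} [Field F] [Field F'] (g : F →+* F') (w : Polynomial F')
    (hw : w.natDegree ≠ 0) :
    ∃ σ : RatFunc F →+* RatFunc F', ∀ p : Polynomial F,
      σ (algebraMap _ _ p) = algebraMap _ _ ((p.map g).comp w) := by
  let ψ : Polynomial F →+* RatFunc F' := (algebraMap (Polynomial F') (RatFunc F')).comp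
    ((Polynomial.compRingHom w).comp (Polynomial.mapRingHom g))
  have hψ : ∀ p, ψ p = algebraMap _ _ ((p.map g).comp w) := fun _ => rfl
  refine ⟨RatFunc.liftRingHom ψ ?_, fun p => RatFunc.liftRingHom_algebraMap _ _ p⟩
  intro p hp
  refine mem_nonZeroDivisors_of_ne_zero fun h => nonZeroDivisors.ne_zero hp ?_
  rw [hψ, map_eq_zero_iff _ (RatFunc.algebraMap_injective F'), Polynomial.comp_eq_zero_iff] at h
  rcases h with h | ⟨-, h⟩
  · exact (Polynomial.map_eq_zero_iff g.injective).1 h
  · exact (hw (by rw [h]; exact Polynomial.natDegree_C _)).elim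

variable {G : Over (Spec (CommRingCat.of K))} [GrpObj G]

/-- A nontrivial action gives a nontrivial rational coaction on the function field. -/
theorem exists_coaction (C : Coord K G) [IsSeparated X.hom] (a : AlgGrp.Action G X) (ha : a.act ≠ snd G X)
    (hw : ∀ (F : Type u) [Field F], (C.op (Polynomial.X : Polynomial (RatFunc F)) (Polynomial.C RatFunc.X)).natDegree ≠ 0) :
    letI := fieldAlgebra X
    ∃ φ : X.left.functionField →+* E X.left.functionField,
      (∀ t, φ (algebraMap K X.left.functionField t) = RatFunc.C (algebraMap K X.left.functionField t)) ∧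
      UnitLaw φ (C.c : X.left.functionField) ∧
      Cocycle φ (C.op Polynomial.X (Polynomial.C RatFunc.X)) ∧ φ ≠ RatFunc.C := by
  letI := fieldAlgebra X
  let F := X.left.functionField
  let ev : Polynomial F →+* F := Polynomial.evalRingHom (C.c : F)
  haveI : (RingHom.ker ev).IsPrime := RingHom.ker_isPrime ev
  let O := Localization.AtPrime (RingHom.ker ev)
  let T : O := algebraMap (Polynomial F) O Polynomial.X
  have hT : IsUnit (T ^ C.e) := by
    rw [← map_pow]
    refine IsLocalization.map_units O (⟨Polynomial.X ^ C.e, fun h => ?_⟩ : (RingHom.ker ev).primeCompl)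
    have h' : (C.c : F) ^ C.e = 0 := by simpa [ev] using h
    exact (C.isUnit_c F).ne_zero h'
  let ιO : F →ₐ[K] O := (IsScalarTower.toAlgHom K (Polynomial F) O).comp
    (IsScalarTower.toAlgHom K F (Polynomial F))
  have hev : ∀ y : (RingHom.ker ev).primeCompl, IsUnit ((Polynomial.aeval (C.c : F)).restrictScalars K (y : Polynomial F)) :=
    fun y => isUnit_iff_ne_zero.2 fun h => y.2 (by simpa [ev, Polynomial.coe_aeval_eq_eval] using h)
  let evO : O →ₐ[K] F := IsLocalization.liftAlgHom (M := (RingHom.ker ev).primeCompl)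
    (f := (Polynomial.aeval (C.c : F)).restrictScalars K) hev
  have hevO : ∀ p, evO (algebraMap (Polynomial F) O p) = p.eval (C.c : F) := fun p => by
    show IsLocalization.lift _ _ = _
    rw [IsLocalization.lift_eq]
    exact congrFun (Polynomial.coe_aeval_eq_eval _) p
  have hevι : evO.comp ιO = AlgHom.id K F := AlgHom.ext fun f => by
    show evO (algebraMap (Polynomial F) O (Polynomial.C f)) = f
    rw [hevO, Polynomial.eval_C]
  let Q : W K O ⟶ X := lift (C.pt O T hT) (WM ιO ≫ genOver X) ≫ a.act
  have hQev : WM evO ≫ Q = genOver X := by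
    rw [← Category.assoc, comp_lift, C.pt_comp, ← Category.assoc, WM_comp, hevι, WM_id, Category.id_comp,
      C.pt_congr (show evO T = (C.c : F) by rw [hevO, Polynomial.eval_X]) _ (C.isUnit_c F), C.pt_c, one_act']
  have hcl : Q.left (IsLocalRing.closedPoint O) = genericPoint X.left := by
    have h1 : Spec.map (CommRingCat.ofHom (evO : O →+* F)) (IsLocalRing.closedPoint F) = IsLocalRing.closedPoint O := by
      haveI : IsLocalHom (evO : O →+* F) := .of_surjective _ fun f => ⟨ιO f, AlgHom.congr_fun hevι f⟩
      exact IsLocalRing.comap_closedPoint (evO : O →+* F)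
    rw [← h1, ← Scheme.Hom.comp_apply]
    rw [show Spec.map (CommRingCat.ofHom (evO : O →+* F)) ≫ Q.left = X.left.fromSpecStalk (genericPoint X.left)
      from congrArg CommaMorphism.left hQev]
    exact Scheme.fromSpecStalk_closedPoint
  obtain ⟨φ0r, hφ0r⟩ := exists_stalk_hom O Q.left _ hcl
  let φ0 : F →ₐ[K] O :=
    { φ0r with
      commutes' := fun t => by
        have h : Spec.map (CommRingCat.ofHom φ0r) ≫ Spec.map (CommRingCat.ofHom (algebraMap K F)) =
            Spec.map (CommRingCat.ofHom (algebraMap K O)) := by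
          rw [fieldAlgebra_w, ← Category.assoc, hφ0r]; exact Over.w Q
        rw [← Spec.map_comp] at h
        exact RingHom.congr_fun (congrArg CommRingCat.Hom.hom (Spec.map_injective h)) t }
  have hφ0 : WM φ0 ≫ genOver X = Q := Over.OverMorphism.ext hφ0r
  have hev0 : evO.comp φ0 = AlgHom.id K F := genOver_inj _ _ (by
    rw [← WM_comp, Category.assoc, hφ0, hQev, WM_id, Category.id_comp])
  -- the generic point
  have hOE : ∀ y : (RingHom.ker ev).primeCompl,
      IsUnit ((IsScalarTower.toAlgHom K (Polynomial F) (E F)) (y : Polynomial F)) := fun y =>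
    isUnit_iff_ne_zero.2 fun h => y.2 (by
      have : (y : Polynomial F) = 0 := RatFunc.algebraMap_injective F (h.trans (map_zero _).symm)
      rw [this]; exact zero_mem _)
  let jOE : O →ₐ[K] E F := IsLocalization.liftAlgHom (M := (RingHom.ker ev).primeCompl) hOE
  have hjOE : ∀ p, jOE (algebraMap (Polynomial F) O p) = algebraMap (Polynomial F) (E F) p := fun p => by
    show IsLocalization.lift _ _ = _
    rw [IsLocalization.lift_eq]; rfl
  let φ : F →ₐ[K] E F := jOE.comp φ0
  let ιE : F →ₐ[K] E F := jOE.comp ιO
  have hιE : ∀ f, ιE f = RatFunc.C f := fun f => by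
    show jOE (algebraMap (Polynomial F) O (Polynomial.C f)) = _
    rw [hjOE, RatFunc.algebraMap_C]
  have hXE : IsUnit ((par F) ^ C.e) := by
    have h := hT.map jOE
    rwa [map_pow, hjOE, RatFunc.algebraMap_X] at h
  have hP : WM φ ≫ genOver X = lift (C.pt (E F) (par F) hXE) (WM ιE ≫ genOver X) ≫ a.act := by
    rw [← WM_comp, Category.assoc, hφ0, ← Category.assoc, comp_lift, C.pt_comp, ← Category.assoc, WM_comp,
      C.pt_congr (show jOE T = par F by rw [hjOE, RatFunc.algebraMap_X]) _ hXE]
  refine ⟨φ, fun t => by
    show φ (algebraMap K F t) = _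
    rw [φ.commutes, ← hιE]; exact (ιE.commutes t).symm, ?_, ?_, ?_⟩
  · intro f
    show (φ f).denom.eval (C.c : F) ≠ 0 ∧ (φ f).num.eval (C.c : F) = f * (φ f).denom.eval (C.c : F)
    obtain ⟨⟨p, q⟩, hpq⟩ := IsLocalization.surj (RingHom.ker ev).primeCompl (φ0 f)
    have hq : (q : Polynomial F).eval (C.c : F) ≠ 0 := fun h => q.2 h
    have h1 : φ f * algebraMap _ (E F) (q : Polynomial F) = algebraMap _ (E F) p := by
      rw [← hjOE, ← hjOE]; show jOE (φ0 f) * _ = _; rw [← map_mul, hpq]
    have h2 : f * (q : Polynomial F).eval (C.c : F) = p.eval (C.c : F) := by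
      have h := congrArg evO hpq
      rwa [map_mul, hevO, hevO, show evO (φ0 f) = f from AlgHom.congr_fun hev0 f] at h
    have h3 : (φ f).num * (q : Polynomial F) = p * (φ f).denom := by
      refine RatFunc.algebraMap_injective F ?_
      rw [← RatFunc.num_div_denom (φ f), div_mul_eq_mul_div,
        div_eq_iff (RatFunc.algebraMap_ne_zero (RatFunc.denom_ne_zero (φ f)))] at h1
      rw [map_mul, map_mul]
      exact h1
    have h4 := congrArg (fun r => r.eval (C.c : F)) h3
    simp only [Polynomial.eval_mul, ← h2] at h4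
    have h5 : (φ f).denom.eval (C.c : F) ≠ 0 := fun h0 => by
      rw [h0, mul_zero] at h4
      have hn : (φ f).num.eval (C.c : F) = 0 := (mul_eq_zero.1 h4).resolve_right hq
      obtain ⟨s, t, hst⟩ := RatFunc.isCoprime_num_denom (φ f)
      have := congrArg (fun r => r.eval (C.c : F)) hst
      simp [h0, hn] at this
    exact ⟨h5, mul_right_cancel₀ hq (by linear_combination h4)⟩
  · -- the cocycle
    intro f
    let w : Polynomial (E F) := C.op Polynomial.X (Polynomial.C (par F))
    obtain ⟨rm, hrm⟩ := exists_subst (φ : F →+* E F) Polynomial.X (by simp)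
    obtain ⟨σ, hσ⟩ := exists_subst (RatFunc.C : F →+* E F) w (hw F)
    have hK : ∀ (h : RatFunc F →+* RatFunc (E F)) (g : F →+* E F) (v : Polynomial (E F)),
        (∀ p : Polynomial F, h (algebraMap _ _ p) = algebraMap _ _ ((p.map g).comp v)) →
        (∀ t, g (algebraMap K F t) = algebraMap K (E F) t) →
        ∀ t, h (algebraMap K (RatFunc F) t) = algebraMap K (RatFunc (E F)) t := by
      intro h g v hh hg t
      rw [IsScalarTower.algebraMap_apply K (Polynomial F) (RatFunc F), hh,
        IsScalarTower.algebraMap_apply K F (Polynomial F), Polynomial.algebraMap_eq, Polynomial.map_C,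
        Polynomial.C_comp, hg, IsScalarTower.algebraMap_apply K (Polynomial (E F)) (RatFunc (E F)),
        IsScalarTower.algebraMap_apply K (E F) (Polynomial (E F))]
      rfl
    let rmA : E F →ₐ[K] E (E F) := { rm with commutes' := hK rm _ _ hrm φ.commutes }
    let σA : E F →ₐ[K] E (E F) := { σ with commutes' := hK σ _ _ hσ (fun t => by
      rw [← hιE, ιE.commutes]) }
    let c2 : E F →ₐ[K] E (E F) := IsScalarTower.toAlgHom K (E F) (E (E F))
    have hc2 : ∀ z, c2 z = RatFunc.C z := fun z => by
      show algebraMap (E F) (E (E F)) z = _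
      rw [RatFunc.algebraMap_eq_C]
    have e1 : rmA.comp ιE = c2.comp φ := AlgHom.ext fun z => by
      show rm (ιE z) = c2 (φ z)
      rw [hιE, ← RatFunc.algebraMap_C, hrm, Polynomial.map_C, Polynomial.C_comp, hc2, ← RatFunc.algebraMap_C]
      rfl
    have e2 : σA.comp ιE = c2.comp ιE := AlgHom.ext fun z => by
      show σ (ιE z) = c2 (ιE z)
      rw [hιE, ← RatFunc.algebraMap_C, hσ, Polynomial.map_C, Polynomial.C_comp, hc2, ← RatFunc.algebraMap_C,
        ← RatFunc.algebraMap_C]
    have hu : IsUnit ((c2 (par F)) ^ C.e) := map_pow c2 (par F) C.e ▸ hXE.map c2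
    have hTu : IsUnit ((par (E F)) ^ C.e) := by
      have h := hXE.map rmA
      rw [map_pow, show rmA (par F) = par (E F) by
        show rm (par F) = _
        rw [show par F = algebraMap (Polynomial F) (E F) Polynomial.X from RatFunc.algebraMap_X.symm, hrm,
          Polynomial.map_X, Polynomial.comp_X, RatFunc.algebraMap_X]] at h
      exact h
    obtain ⟨hop, hmul⟩ := C.pt_mul (E (E F)) (par (E F)) (c2 (par F)) hTu hu
    have key : rmA.comp φ = σA.comp φ := by
      refine genOver_inj _ _ ?_
      rw [← WM_comp φ rmA, ← WM_comp φ σA, Category.assoc, Category.assoc, hP, ← Category.assoc, ← Category.assoc,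
        comp_lift, comp_lift, C.pt_comp, C.pt_comp, ← Category.assoc, ← Category.assoc, WM_comp, WM_comp, e1,
        e2, ← WM_comp φ c2, Category.assoc, hP, ← Category.assoc (WM c2), comp_lift, C.pt_comp,
        ← Category.assoc (WM c2), WM_comp, act_act,
        C.pt_congr (show rmA (par F) = par (E F) by
          show rm (par F) = _
          rw [show par F = algebraMap (Polynomial F) (E F) Polynomial.X from RatFunc.algebraMap_X.symm, hrm,
            Polynomial.map_X, Polynomial.comp_X, RatFunc.algebraMap_X]) _ hTu,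
        C.pt_congr (show σA (par F) = C.op (par (E F)) (c2 (par F)) by
          show σ (par F) = _
          rw [show par F = algebraMap (Polynomial F) (E F) Polynomial.X from RatFunc.algebraMap_X.symm, hσ,
            Polynomial.map_X, Polynomial.X_comp, C.map_op, RatFunc.algebraMap_X, RatFunc.algebraMap_C, hc2,
            RatFunc.algebraMap_X]) _ hop, hmul]
    have hden : ∀ (h : RatFunc F →+* RatFunc (E F)),
        h (φ f) * h (algebraMap _ _ (φ f).denom) = h (algebraMap _ _ (φ f).num) := fun h => by
      rw [← map_mul]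
      congr 1
      exact (eq_div_iff (RatFunc.algebraMap_ne_zero (RatFunc.denom_ne_zero (φ f)))).1
        (RatFunc.num_div_denom (φ f)).symm
    have hkey : rm (φ f) = σ (φ f) := AlgHom.congr_fun key f
    refine RatFunc.algebraMap_injective (E F) ?_
    have hd1 := hden rm
    have hd2 := hden σ
    rw [hrm, hrm, Polynomial.comp_X, Polynomial.comp_X, hkey] at hd1
    rw [hσ, hσ] at hd2
    rw [map_mul, map_mul]
    have hcross : ∀ (p q p' q' x : RatFunc (E F)), x * q = p → x * q' = p' → p * q' = p' * q := by
      intro p q p' q' x h1 h2; rw [← h1, ← h2]; ring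
    exact hcross _ _ _ _ _ hd1 hd2
  · -- non-triviality
    intro hφC
    refine ha ?_
    have hgen : lift (C.pt (E F) (par F) hXE) (WM ιE ≫ genOver X) ≫ a.act = WM ιE ≫ genOver X := by
      rw [← hP]
      congr 2
      exact AlgHom.ext fun z => (RingHom.congr_fun hφC z).trans (hιE z).symm
    apply Over.OverMorphism.ext
    have hloc : ∀ z : (G ⊗ X).left, ∃ V : (G ⊗ X).left.Opens, z ∈ V ∧
        V.ι ≫ a.act.left = V.ι ≫ (snd G X).left := by
      intro z
      obtain ⟨_, ⟨U, hU, rfl⟩, hzU, -⟩ := X.left.isBasis_affineOpens.exists_subset_of_mem_open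
        (Set.mem_univ ((snd G X).left z)) isOpen_univ
      obtain ⟨_, ⟨V, hV, rfl⟩, hzV, hVU⟩ := (G ⊗ X).left.isBasis_affineOpens.exists_subset_of_mem_open
        (show z ∈ (snd G X).left ⁻¹ᵁ U from hzU) ((snd G X).left ⁻¹ᵁ U).isOpen
      refine ⟨V, hzV, ?_⟩
      haveI : Nonempty U := ⟨⟨_, hzU⟩⟩
      let R : Type u := Γ(X.left, U)
      letI : Algebra K R := (Spec.preimage (hU.fromSpec ≫ X.hom)).hom.toAlgebra
      let B : Type u := Γ((G ⊗ X).left, V)
      letI : Algebra K B := (Spec.preimage (hV.fromSpec ≫ (G ⊗ X).hom)).hom.toAlgebra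
      let uP : W K R ⟶ X := Over.homMk hU.fromSpec (Spec.map_preimage (hU.fromSpec ≫ X.hom)).symm
      let j : W K B ⟶ G ⊗ X := Over.homMk hV.fromSpec (Spec.map_preimage (hV.fromSpec ≫ (G ⊗ X).hom)).symm
      have hrange : Set.range (hV.fromSpec ≫ (snd G X).left) ⊆ Set.range hU.fromSpec := by
        rintro _ ⟨p, rfl⟩
        rw [hU.range_fromSpec, Scheme.Hom.comp_apply]
        exact hVU (hV.range_fromSpec ▸ ⟨p, rfl⟩)
      let hl := IsOpenImmersion.lift hU.fromSpec (hV.fromSpec ≫ (snd G X).left) hrange
      let hR : R →ₐ[K] B :=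
        { (Spec.preimage hl).hom with
          commutes' := fun t => by
            have h : Spec.map (Spec.preimage hl) ≫ Spec.map (CommRingCat.ofHom (algebraMap K R)) =
                Spec.map (CommRingCat.ofHom (algebraMap K B)) := by
              rw [Spec.map_preimage, show Spec.map (CommRingCat.ofHom (algebraMap K R)) = hU.fromSpec ≫ X.hom
                from Spec.map_preimage _, ← Category.assoc, IsOpenImmersion.lift_fac, Category.assoc, Over.w]
              exact (Spec.map_preimage _).symm
            rw [← Spec.map_comp] at h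
            exact RingHom.congr_fun (congrArg CommRingCat.Hom.hom (Spec.map_injective h)) t }
      have hjsnd : j ≫ snd G X = WM hR ≫ uP := by
        apply Over.OverMorphism.ext
        show hV.fromSpec ≫ (snd G X).left = Spec.map (Spec.preimage hl) ≫ hU.fromSpec
        rw [Spec.map_preimage, IsOpenImmersion.lift_fac]
      obtain ⟨r, hr, hrp⟩ := C.surj B (j ≫ fst G X)
      let germ : R →+* F := (X.left.presheaf.germ U (genericPoint X.left)
        (((genericPoint_spec X.left).mem_open_set_iff U.isOpen).mpr ⟨_, trivial, hzU⟩)).hom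
      let gA : R →ₐ[K] F :=
        { germ with
          commutes' := fun t => by
            have h : Spec.map (CommRingCat.ofHom germ) ≫ Spec.map (CommRingCat.ofHom (algebraMap K R)) =
                Spec.map (CommRingCat.ofHom (algebraMap K F)) := by
              rw [show Spec.map (CommRingCat.ofHom (algebraMap K R)) = hU.fromSpec ≫ X.hom
                from Spec.map_preimage _, fieldAlgebra_w, ← Category.assoc]
              congr 1
              exact hU.fromSpecStalk_eq_fromSpecStalk _
            rw [← Spec.map_comp] at h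
            exact RingHom.congr_fun (congrArg CommRingCat.Hom.hom (Spec.map_injective h)) t }
      have hgA : WM gA ≫ uP = genOver X := Over.OverMorphism.ext (hU.fromSpecStalk_eq_fromSpecStalk _)
      let UR := Localization.Away ((Polynomial.X : Polynomial R) ^ C.e)
      let TR : UR := algebraMap (Polynomial R) UR Polynomial.X
      have hTR : IsUnit (TR ^ C.e) := by
        rw [← map_pow]; exact IsLocalization.Away.algebraMap_isUnit _
      let ιR : R →ₐ[K] UR := (IsScalarTower.toAlgHom K (Polynomial R) UR).comp
        (IsScalarTower.toAlgHom K R (Polynomial R))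
      let mE : Polynomial R →ₐ[K] E F :=
        (IsScalarTower.toAlgHom K (Polynomial F) (E F)).comp (Polynomial.mapAlgHom gA)
      have hmE : ∀ p, mE p = algebraMap (Polynomial F) (E F) (p.map germ) := fun _ => rfl
      have hmEu : ∀ y : Submonoid.powers ((Polynomial.X : Polynomial R) ^ C.e), IsUnit (mE y) := by
        rintro ⟨_, i, rfl⟩
        rw [map_pow, map_pow]
        refine IsUnit.pow _ ?_
        rw [hmE, Polynomial.map_X, RatFunc.algebraMap_X]
        exact hXE
      let jR : UR →ₐ[K] E F := IsLocalization.liftAlgHom (f := mE) hmEu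
      have hjR : ∀ p, jR (algebraMap (Polynomial R) UR p) = mE p := fun p => IsLocalization.lift_eq _ p
      haveI hdomR : IsDomain R := inferInstanceAs (IsDomain Γ(X.left, U))
      have hinjR : Function.Injective germ := by
        haveI := functionField_isFractionRing_of_isAffineOpen X.left U hU
        exact IsFractionRing.injective R F
      have hjinj : Function.Injective jR := by
        rw [injective_iff_map_eq_zero]
        intro y hy
        obtain ⟨⟨p, s⟩, hps⟩ := IsLocalization.surj (Submonoid.powers ((Polynomial.X : Polynomial R) ^ C.e)) y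
        have h : mE p = 0 := by rw [← hjR, ← hps, map_mul, hy, zero_mul]
        rw [hmE, map_eq_zero_iff _ (RatFunc.algebraMap_injective _), Polynomial.map_eq_zero_iff hinjR] at h
        rw [h, map_zero] at hps
        exact (IsLocalization.map_units UR s).mul_left_eq_zero.1 hps
      have huniv : lift (C.pt UR TR hTR) (WM ιR ≫ uP) ≫ a.act = WM ιR ≫ uP := by
        apply Over.OverMorphism.ext
        haveI : IsDomain UR := IsLocalization.isDomain_localization
          (powers_le_nonZeroDivisors_of_noZeroDivisors (pow_ne_zero _ Polynomial.X_ne_zero))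
        haveI : IsReduced (W K UR).left := inferInstanceAs (IsReduced (Spec (CommRingCat.of UR)))
        haveI : IsDominant (WM jR).left := by
          refine ⟨?_⟩
          exact (PrimeSpectrum.denseRange_comap_iff_ker_le_nilRadical (jR : UR →+* E F)).2
            (by rw [(RingHom.injective_iff_ker_eq_bot (jR : UR →+* E F)).1 hjinj]; exact bot_le)
        refine ext_of_isDominant_of_isSeparated X.hom ((Over.w _).trans (Over.w _).symm) (WM jR).left ?_
        have e : jR.comp ιR = ιE.comp gA := AlgHom.ext fun x => by
          show jR (algebraMap (Polynomial R) UR (Polynomial.C x)) = ιE (gA x)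
          rw [hjR, hmE, Polynomial.map_C, RatFunc.algebraMap_C, hιE]; rfl
        refine congrArg CommaMorphism.left (?_ : WM jR ≫ lift (C.pt UR TR hTR) (WM ιR ≫ uP) ≫ a.act = WM jR ≫ WM ιR ≫ uP)
        rw [← Category.assoc, comp_lift, C.pt_comp, ← Category.assoc, WM_comp, e, ← WM_comp, Category.assoc,
          hgA, C.pt_congr (show jR TR = par F by rw [hjR, hmE, Polynomial.map_X, RatFunc.algebraMap_X]) _ hXE,
          hgen]
      let mB : Polynomial R →ₐ[K] B :=
        { Polynomial.eval₂RingHom (hR : R →+* B) r with
          commutes' := fun t => by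
            show Polynomial.eval₂ (hR : R →+* B) r (algebraMap K (Polynomial R) t) = _
            rw [IsScalarTower.algebraMap_apply K R (Polynomial R), Polynomial.algebraMap_eq, Polynomial.eval₂_C]
            exact hR.commutes t }
      have hmBu : ∀ y : Submonoid.powers ((Polynomial.X : Polynomial R) ^ C.e), IsUnit (mB y) := by
        rintro ⟨_, i, rfl⟩
        rw [map_pow, map_pow]
        refine IsUnit.pow _ ?_
        show IsUnit ((Polynomial.eval₂ (hR : R →+* B) r Polynomial.X) ^ C.e)
        rw [Polynomial.eval₂_X]; exact hr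
      let pB : UR →ₐ[K] B := IsLocalization.liftAlgHom (f := mB) hmBu
      have hpB : ∀ p, pB (algebraMap (Polynomial R) UR p) = mB p := fun p => IsLocalization.lift_eq _ p
      have eB : pB.comp ιR = hR := AlgHom.ext fun x => by
        show pB (algebraMap (Polynomial R) UR (Polynomial.C x)) = hR x
        rw [hpB]; exact Polynomial.eval₂_C _ _
      have hjeq : j = WM pB ≫ lift (C.pt UR TR hTR) (WM ιR ≫ uP) := by
        rw [comp_lift, C.pt_comp, ← Category.assoc, WM_comp, eB,
          C.pt_congr (show pB TR = r by rw [hpB]; exact Polynomial.eval₂_X _ _) _ hr, ← hrp, ← hjsnd]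
        exact (lift_comp_fst_snd j).symm
      have hj : j ≫ a.act = j ≫ snd G X := by
        rw [hjeq, Category.assoc, huniv, Category.assoc, lift_snd]
      have hj' : hV.fromSpec ≫ a.act.left = hV.fromSpec ≫ (snd G X).left := congrArg CommaMorphism.left hj
      rw [← cancel_epi hV.isoSpec.inv, ← Category.assoc, ← Category.assoc, hV.isoSpec_inv_ι]
      exact hj'
    choose V hzV hV using hloc
    exact (Scheme.openCoverOfIsOpenCover (G ⊗ X).left V
      (TopologicalSpace.IsOpenCover.mk (eq_top_iff.2 fun z _ => TopologicalSpace.Opens.mem_iSup.2 ⟨z, hzV z⟩))).hom_ext _ _ hV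

end Groth.Agent.ActRat
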